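import Cfsg.Agent.Lib.ToddCox.SP44X.Data0
set_option autoImplicit false
set_option maxRecDepth 100000
namespace Cfsg.Agent.Lib.ToddCox.SP44X
def eT_0_2 (j : ℕ) : ℕ := bif Nat.blt j 1 then E_0 else E_1
def eT_2_4 (j : ℕ) : ℕ := bif Nat.blt j 3 then E_2 else E_3
def eT_0_4 (j : ℕ) : ℕ := bif Nat.blt j 2 then (eT_0_2 j) else (eT_2_4 j)
def eT (j : ℕ) : ℕ := (eT_0_4 j)
noncomputable def chunkF (h : ℕ) : ℕ := Nat.rec (motive := fun _ => ℕ) (eT 0) (fun n _ => eT (Nat.succ n)) h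
noncomputable def Eo (r : ℕ) : ℕ := Nat.land (Nat.shiftRight (chunkF (Nat.shiftRight r 8)) (Nat.mul (Nat.land r 255) 54)) 18014398509481983
def invT : ℕ := 0xffef7cefae78df6d74cf2c70beeb6caeaa689e69648e28607de75c6da6585d65544d24503ce34c2ca2481c61440c2040
def inv (y : ℕ) : ℕ := invOf invT y
def Wt_0_2 (j : ℕ) : List ℕ := bif Nat.blt j 1 then [nat_lit 0, nat_lit 3, nat_lit 0, nat_lit 3] else [nat_lit 0, nat_lit 4, nat_lit 0, nat_lit 4]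
def Wt_2_4 (j : ℕ) : List ℕ := bif Nat.blt j 3 then [nat_lit 0, nat_lit 5, nat_lit 0, nat_lit 5] else [nat_lit 3, nat_lit 6, nat_lit 0, nat_lit 6]
def Wt_0_4 (j : ℕ) : List ℕ := bif Nat.blt j 2 then (Wt_0_2 j) else (Wt_2_4 j)
def Wt_4_6 (j : ℕ) : List ℕ := bif Nat.blt j 5 then [nat_lit 1, nat_lit 3, nat_lit 1, nat_lit 3] else [nat_lit 1, nat_lit 4, nat_lit 1, nat_lit 4]
def Wt_7_9 (j : ℕ) : List ℕ := bif Nat.blt j 8 then [nat_lit 4, nat_lit 6, nat_lit 1, nat_lit 6] else [nat_lit 2, nat_lit 3, nat_lit 2, nat_lit 3]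
def Wt_6_9 (j : ℕ) : List ℕ := bif Nat.blt j 7 then [nat_lit 1, nat_lit 5, nat_lit 1, nat_lit 5] else (Wt_7_9 j)
def Wt_4_9 (j : ℕ) : List ℕ := bif Nat.blt j 6 then (Wt_4_6 j) else (Wt_6_9 j)
def Wt_0_9 (j : ℕ) : List ℕ := bif Nat.blt j 4 then (Wt_0_4 j) else (Wt_4_9 j)
def Wt_9_11 (j : ℕ) : List ℕ := bif Nat.blt j 10 then [nat_lit 2, nat_lit 4, nat_lit 2, nat_lit 4] else [nat_lit 2, nat_lit 5, nat_lit 2, nat_lit 5]
def Wt_12_14 (j : ℕ) : List ℕ := bif Nat.blt j 13 then [nat_lit 0, nat_lit 6, nat_lit 3, nat_lit 6] else [nat_lit 1, nat_lit 6, nat_lit 4, nat_lit 6]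
def Wt_11_14 (j : ℕ) : List ℕ := bif Nat.blt j 12 then [nat_lit 5, nat_lit 6, nat_lit 2, nat_lit 6] else (Wt_12_14 j)
def Wt_9_14 (j : ℕ) : List ℕ := bif Nat.blt j 11 then (Wt_9_11 j) else (Wt_11_14 j)
def Wt_14_16 (j : ℕ) : List ℕ := bif Nat.blt j 15 then [nat_lit 2, nat_lit 6, nat_lit 5, nat_lit 6] else [nat_lit 1, nat_lit 0, nat_lit 1, nat_lit 0, nat_lit 1, nat_lit 0]
def Wt_17_19 (j : ℕ) : List ℕ := bif Nat.blt j 18 then [nat_lit 5, nat_lit 2, nat_lit 7, nat_lit 5, nat_lit 5, nat_lit 2, nat_lit 2, nat_lit 3, nat_lit 5, nat_lit 5, nat_lit 4, nat_lit 5, nat_lit 6] else [nat_lit 6, nat_lit 5, nat_lit 6, nat_lit 2]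
def Wt_16_19 (j : ℕ) : List ℕ := bif Nat.blt j 17 then [nat_lit 4, nat_lit 3, nat_lit 4, nat_lit 3, nat_lit 4, nat_lit 3] else (Wt_17_19 j)
def Wt_14_19 (j : ℕ) : List ℕ := bif Nat.blt j 16 then (Wt_14_16 j) else (Wt_16_19 j)
def Wt_9_19 (j : ℕ) : List ℕ := bif Nat.blt j 14 then (Wt_9_14 j) else (Wt_14_19 j)
def Wt_0_19 (j : ℕ) : List ℕ := bif Nat.blt j 9 then (Wt_0_9 j) else (Wt_9_19 j)
def Wt_19_21 (j : ℕ) : List ℕ := bif Nat.blt j 20 then [nat_lit 63, nat_lit 5, nat_lit 6, nat_lit 2, nat_lit 6] else [nat_lit 63, nat_lit 6, nat_lit 63, nat_lit 6]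
def Wt_22_24 (j : ℕ) : List ℕ := bif Nat.blt j 23 then [nat_lit 5, nat_lit 5, nat_lit 63] else [nat_lit 63, nat_lit 7, nat_lit 5, nat_lit 5, nat_lit 2, nat_lit 2, nat_lit 3, nat_lit 5, nat_lit 5, nat_lit 4, nat_lit 5, nat_lit 6, nat_lit 5, nat_lit 2]
def Wt_21_24 (j : ℕ) : List ℕ := bif Nat.blt j 22 then [nat_lit 63, nat_lit 5, nat_lit 63, nat_lit 5] else (Wt_22_24 j)
def Wt_19_24 (j : ℕ) : List ℕ := bif Nat.blt j 21 then (Wt_19_21 j) else (Wt_21_24 j)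
def Wt_24_26 (j : ℕ) : List ℕ := bif Nat.blt j 25 then [nat_lit 7, nat_lit 7, nat_lit 63] else [nat_lit 5, nat_lit 0, nat_lit 5, nat_lit 0]
def Wt_27_29 (j : ℕ) : List ℕ := bif Nat.blt j 28 then [nat_lit 63, nat_lit 3, nat_lit 63, nat_lit 3] else [nat_lit 3, nat_lit 3, nat_lit 63]
def Wt_26_29 (j : ℕ) : List ℕ := bif Nat.blt j 27 then [nat_lit 63, nat_lit 5, nat_lit 5, nat_lit 4, nat_lit 5, nat_lit 6, nat_lit 5, nat_lit 2, nat_lit 7, nat_lit 5, nat_lit 5, nat_lit 2, nat_lit 2, nat_lit 3] else (Wt_27_29 j)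
def Wt_24_29 (j : ℕ) : List ℕ := bif Nat.blt j 26 then (Wt_24_26 j) else (Wt_26_29 j)
def Wt_19_29 (j : ℕ) : List ℕ := bif Nat.blt j 24 then (Wt_19_24 j) else (Wt_24_29 j)
def Wt_29_31 (j : ℕ) : List ℕ := bif Nat.blt j 30 then [nat_lit 6, nat_lit 6, nat_lit 63] else [nat_lit 6, nat_lit 0, nat_lit 6, nat_lit 3]
def Wt_32_34 (j : ℕ) : List ℕ := bif Nat.blt j 33 then [nat_lit 6, nat_lit 1, nat_lit 6, nat_lit 4] else [nat_lit 63, nat_lit 2, nat_lit 63, nat_lit 2]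
def Wt_31_34 (j : ℕ) : List ℕ := bif Nat.blt j 32 then [nat_lit 6, nat_lit 4, nat_lit 6, nat_lit 1] else (Wt_32_34 j)
def Wt_29_34 (j : ℕ) : List ℕ := bif Nat.blt j 31 then (Wt_29_31 j) else (Wt_31_34 j)
def Wt_34_36 (j : ℕ) : List ℕ := bif Nat.blt j 35 then [nat_lit 2, nat_lit 2, nat_lit 63] else [nat_lit 3, nat_lit 2, nat_lit 3, nat_lit 2]
def Wt_37_39 (j : ℕ) : List ℕ := bif Nat.blt j 38 then [nat_lit 6, nat_lit 5, nat_lit 4, nat_lit 5, nat_lit 5, nat_lit 3, nat_lit 2, nat_lit 2, nat_lit 5, nat_lit 5, nat_lit 7, nat_lit 2, nat_lit 5] else [nat_lit 63, nat_lit 2, nat_lit 6, nat_lit 5, nat_lit 6]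
def Wt_36_39 (j : ℕ) : List ℕ := bif Nat.blt j 37 then [nat_lit 3, nat_lit 1, nat_lit 3, nat_lit 1] else (Wt_37_39 j)
def Wt_34_39 (j : ℕ) : List ℕ := bif Nat.blt j 36 then (Wt_34_36 j) else (Wt_36_39 j)
def Wt_29_39 (j : ℕ) : List ℕ := bif Nat.blt j 34 then (Wt_29_34 j) else (Wt_34_39 j)
def Wt_19_39 (j : ℕ) : List ℕ := bif Nat.blt j 29 then (Wt_19_29 j) else (Wt_29_39 j)
def Wt_0_39 (j : ℕ) : List ℕ := bif Nat.blt j 19 then (Wt_0_19 j) else (Wt_19_39 j)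
def Wt_39_41 (j : ℕ) : List ℕ := bif Nat.blt j 40 then [nat_lit 63, nat_lit 1, nat_lit 63, nat_lit 1] else [nat_lit 1, nat_lit 1, nat_lit 63]
def Wt_42_44 (j : ℕ) : List ℕ := bif Nat.blt j 43 then [nat_lit 4, nat_lit 4, nat_lit 63] else [nat_lit 63, nat_lit 6, nat_lit 4, nat_lit 6, nat_lit 1]
def Wt_41_44 (j : ℕ) : List ℕ := bif Nat.blt j 42 then [nat_lit 63, nat_lit 4, nat_lit 63, nat_lit 4] else (Wt_42_44 j)
def Wt_39_44 (j : ℕ) : List ℕ := bif Nat.blt j 41 then (Wt_39_41 j) else (Wt_41_44 j)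
def Wt_44_46 (j : ℕ) : List ℕ := bif Nat.blt j 45 then [nat_lit 63, nat_lit 5, nat_lit 6, nat_lit 5, nat_lit 4, nat_lit 5, nat_lit 5, nat_lit 3, nat_lit 2, nat_lit 2, nat_lit 5, nat_lit 5, nat_lit 7, nat_lit 2] else [nat_lit 63, nat_lit 5, nat_lit 6, nat_lit 5, nat_lit 2, nat_lit 7, nat_lit 5, nat_lit 5, nat_lit 2, nat_lit 2, nat_lit 3, nat_lit 5, nat_lit 5, nat_lit 4]
def Wt_47_49 (j : ℕ) : List ℕ := bif Nat.blt j 48 then [nat_lit 6, nat_lit 3, nat_lit 6, nat_lit 0] else [nat_lit 6, nat_lit 2, nat_lit 6, nat_lit 5]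
def Wt_46_49 (j : ℕ) : List ℕ := bif Nat.blt j 47 then [nat_lit 63, nat_lit 5, nat_lit 5, nat_lit 7, nat_lit 2, nat_lit 5, nat_lit 6, nat_lit 5, nat_lit 4, nat_lit 5, nat_lit 5, nat_lit 3, nat_lit 2, nat_lit 2] else (Wt_47_49 j)
def Wt_44_49 (j : ℕ) : List ℕ := bif Nat.blt j 46 then (Wt_44_46 j) else (Wt_46_49 j)
def Wt_39_49 (j : ℕ) : List ℕ := bif Nat.blt j 44 then (Wt_39_44 j) else (Wt_44_49 j)
def Wt_49_51 (j : ℕ) : List ℕ := bif Nat.blt j 50 then [nat_lit 4, nat_lit 2, nat_lit 4, nat_lit 2] else [nat_lit 63, nat_lit 4, nat_lit 1, nat_lit 4, nat_lit 1]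
def Wt_52_54 (j : ℕ) : List ℕ := bif Nat.blt j 53 then [nat_lit 63, nat_lit 3, nat_lit 2, nat_lit 3, nat_lit 2] else [nat_lit 4, nat_lit 5, nat_lit 6, nat_lit 5, nat_lit 2, nat_lit 7, nat_lit 5, nat_lit 5, nat_lit 2, nat_lit 2, nat_lit 3, nat_lit 5, nat_lit 5]
def Wt_51_54 (j : ℕ) : List ℕ := bif Nat.blt j 52 then [nat_lit 5, nat_lit 1, nat_lit 5, nat_lit 1] else (Wt_52_54 j)
def Wt_49_54 (j : ℕ) : List ℕ := bif Nat.blt j 51 then (Wt_49_51 j) else (Wt_51_54 j)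
def Wt_54_56 (j : ℕ) : List ℕ := bif Nat.blt j 55 then [nat_lit 63, nat_lit 1, nat_lit 6, nat_lit 4, nat_lit 6] else [nat_lit 63, nat_lit 5, nat_lit 1, nat_lit 5, nat_lit 1]
def Wt_57_59 (j : ℕ) : List ℕ := bif Nat.blt j 58 then [nat_lit 63, nat_lit 0, nat_lit 63, nat_lit 0] else [nat_lit 0, nat_lit 0, nat_lit 63]
def Wt_56_59 (j : ℕ) : List ℕ := bif Nat.blt j 57 then [nat_lit 63, nat_lit 2, nat_lit 1, nat_lit 2, nat_lit 1, nat_lit 2, nat_lit 1, nat_lit 2, nat_lit 1, nat_lit 2, nat_lit 1] else (Wt_57_59 j)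
def Wt_54_59 (j : ℕ) : List ℕ := bif Nat.blt j 56 then (Wt_54_56 j) else (Wt_56_59 j)
def Wt_49_59 (j : ℕ) : List ℕ := bif Nat.blt j 54 then (Wt_49_54 j) else (Wt_54_59 j)
def Wt_39_59 (j : ℕ) : List ℕ := bif Nat.blt j 49 then (Wt_39_49 j) else (Wt_49_59 j)
def Wt_59_61 (j : ℕ) : List ℕ := bif Nat.blt j 60 then [nat_lit 63, nat_lit 63, nat_lit 2, nat_lit 63, nat_lit 2] else [nat_lit 63, nat_lit 4, nat_lit 63, nat_lit 4, nat_lit 63]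
def Wt_62_64 (j : ℕ) : List ℕ := bif Nat.blt j 63 then [nat_lit 63, nat_lit 5, nat_lit 63, nat_lit 5, nat_lit 63] else [nat_lit 63, nat_lit 2, nat_lit 63, nat_lit 2, nat_lit 63]
def Wt_61_64 (j : ℕ) : List ℕ := bif Nat.blt j 62 then [nat_lit 63, nat_lit 63, nat_lit 63] else (Wt_62_64 j)
def Wt_59_64 (j : ℕ) : List ℕ := bif Nat.blt j 61 then (Wt_59_61 j) else (Wt_61_64 j)
def Wt_64_66 (j : ℕ) : List ℕ := bif Nat.blt j 65 then [nat_lit 63, nat_lit 7, nat_lit 63, nat_lit 7] else [nat_lit 63, nat_lit 63, nat_lit 5, nat_lit 63, nat_lit 5]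
def Wt_67_69 (j : ℕ) : List ℕ := bif Nat.blt j 68 then [nat_lit 63, nat_lit 63, nat_lit 0, nat_lit 63, nat_lit 0] else [nat_lit 63, nat_lit 7, nat_lit 63, nat_lit 7, nat_lit 63]
def Wt_66_69 (j : ℕ) : List ℕ := bif Nat.blt j 67 then [nat_lit 63, nat_lit 63, nat_lit 6, nat_lit 63, nat_lit 6, nat_lit 63] else (Wt_67_69 j)
def Wt_64_69 (j : ℕ) : List ℕ := bif Nat.blt j 66 then (Wt_64_66 j) else (Wt_66_69 j)
def Wt_59_69 (j : ℕ) : List ℕ := bif Nat.blt j 64 then (Wt_59_64 j) else (Wt_64_69 j)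
def Wt_69_71 (j : ℕ) : List ℕ := bif Nat.blt j 70 then [nat_lit 63, nat_lit 63, nat_lit 1, nat_lit 63, nat_lit 1] else [nat_lit 63, nat_lit 63, nat_lit 6, nat_lit 63, nat_lit 6]
def Wt_72_74 (j : ℕ) : List ℕ := bif Nat.blt j 73 then [nat_lit 63, nat_lit 63, nat_lit 0, nat_lit 63, nat_lit 0, nat_lit 63] else [nat_lit 63, nat_lit 0, nat_lit 63, nat_lit 0, nat_lit 63]
def Wt_71_74 (j : ℕ) : List ℕ := bif Nat.blt j 72 then [nat_lit 63, nat_lit 3, nat_lit 63, nat_lit 3, nat_lit 63] else (Wt_72_74 j)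
def Wt_69_74 (j : ℕ) : List ℕ := bif Nat.blt j 71 then (Wt_69_71 j) else (Wt_71_74 j)
def Wt_74_76 (j : ℕ) : List ℕ := bif Nat.blt j 75 then [nat_lit 63, nat_lit 1, nat_lit 63, nat_lit 1, nat_lit 63] else [nat_lit 63, nat_lit 63, nat_lit 63, nat_lit 63]
def Wt_77_79 (j : ℕ) : List ℕ := bif Nat.blt j 78 then [nat_lit 63, nat_lit 4, nat_lit 3, nat_lit 5, nat_lit 4, nat_lit 3, nat_lit 5, nat_lit 4, nat_lit 5, nat_lit 3, nat_lit 4, nat_lit 5, nat_lit 3, nat_lit 4, nat_lit 3, nat_lit 5] else [nat_lit 63, nat_lit 7, nat_lit 4, nat_lit 5, nat_lit 4, nat_lit 5, nat_lit 7, nat_lit 4, nat_lit 5, nat_lit 4, nat_lit 7, nat_lit 4, nat_lit 5, nat_lit 4, nat_lit 5, nat_lit 4, nat_lit 2, nat_lit 0]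
def Wt_76_79 (j : ℕ) : List ℕ := bif Nat.blt j 77 then [nat_lit 63, nat_lit 6, nat_lit 63, nat_lit 6, nat_lit 63] else (Wt_77_79 j)
def Wt_74_79 (j : ℕ) : List ℕ := bif Nat.blt j 76 then (Wt_74_76 j) else (Wt_76_79 j)
def Wt_69_79 (j : ℕ) : List ℕ := bif Nat.blt j 74 then (Wt_69_74 j) else (Wt_74_79 j)
def Wt_59_79 (j : ℕ) : List ℕ := bif Nat.blt j 69 then (Wt_59_69 j) else (Wt_69_79 j)
def Wt_39_79 (j : ℕ) : List ℕ := bif Nat.blt j 59 then (Wt_39_59 j) else (Wt_59_79 j)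
def Wt_0_79 (j : ℕ) : List ℕ := bif Nat.blt j 39 then (Wt_0_39 j) else (Wt_39_79 j)
def Wt (j : ℕ) : List ℕ := (Wt_0_79 j)
def W (j : ℕ) : List ℕ := bif Nat.blt j 79 then Wt j else []
theorem W_ge (j : ℕ) (h : 79 ≤ j) : W j = [] := by
  unfold W
  rw [blt_false_of_le h]
  rfl
def Hl : List ℕ := []
def isH (y : ℕ) : Bool := List.elem y Hl
def Rb : List (List ℕ) := [[nat_lit 0, nat_lit 0],
  [nat_lit 1, nat_lit 1],
  [nat_lit 1, nat_lit 0, nat_lit 1, nat_lit 0, nat_lit 1, nat_lit 0],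
  [nat_lit 2, nat_lit 2],
  [nat_lit 2, nat_lit 1, nat_lit 2, nat_lit 1, nat_lit 2, nat_lit 1, nat_lit 2, nat_lit 1, nat_lit 2, nat_lit 1],
  [nat_lit 2, nat_lit 1, nat_lit 0, nat_lit 2, nat_lit 1, nat_lit 0, nat_lit 2, nat_lit 1, nat_lit 2, nat_lit 0, nat_lit 1, nat_lit 2, nat_lit 0, nat_lit 1, nat_lit 0],
  [nat_lit 3, nat_lit 3],
  [nat_lit 3, nat_lit 0, nat_lit 3, nat_lit 0],
  [nat_lit 3, nat_lit 1, nat_lit 3, nat_lit 1],
  [nat_lit 3, nat_lit 2, nat_lit 3, nat_lit 2],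
  [nat_lit 4, nat_lit 4],
  [nat_lit 4, nat_lit 0, nat_lit 4, nat_lit 0],
  [nat_lit 4, nat_lit 1, nat_lit 4, nat_lit 1],
  [nat_lit 4, nat_lit 2, nat_lit 4, nat_lit 2],
  [nat_lit 4, nat_lit 3, nat_lit 4, nat_lit 3, nat_lit 4, nat_lit 3],
  [nat_lit 5, nat_lit 5],
  [nat_lit 5, nat_lit 0, nat_lit 5, nat_lit 0],
  [nat_lit 5, nat_lit 1, nat_lit 5, nat_lit 1],
  [nat_lit 5, nat_lit 2, nat_lit 5, nat_lit 2],
  [nat_lit 5, nat_lit 4, nat_lit 5, nat_lit 4, nat_lit 5, nat_lit 4, nat_lit 5, nat_lit 4, nat_lit 5, nat_lit 4],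
  [nat_lit 5, nat_lit 4, nat_lit 3, nat_lit 5, nat_lit 4, nat_lit 3, nat_lit 5, nat_lit 4, nat_lit 5, nat_lit 3, nat_lit 4, nat_lit 5, nat_lit 3, nat_lit 4, nat_lit 3],
  [nat_lit 6, nat_lit 6],
  [nat_lit 3, nat_lit 6, nat_lit 0, nat_lit 6],
  [nat_lit 4, nat_lit 6, nat_lit 1, nat_lit 6],
  [nat_lit 5, nat_lit 6, nat_lit 2, nat_lit 6],
  [nat_lit 7, nat_lit 7],
  [nat_lit 0, nat_lit 7, nat_lit 1, nat_lit 0, nat_lit 4, nat_lit 3, nat_lit 7, nat_lit 4, nat_lit 1, nat_lit 7, nat_lit 6, nat_lit 3, nat_lit 4, nat_lit 3, nat_lit 0, nat_lit 1],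
  [nat_lit 7, nat_lit 4, nat_lit 5, nat_lit 4, nat_lit 5, nat_lit 7, nat_lit 4, nat_lit 5, nat_lit 4, nat_lit 7, nat_lit 4, nat_lit 5, nat_lit 4, nat_lit 5, nat_lit 4, nat_lit 2, nat_lit 0],
  [nat_lit 5, nat_lit 5, nat_lit 4, nat_lit 5, nat_lit 6, nat_lit 5, nat_lit 2, nat_lit 7, nat_lit 5, nat_lit 5, nat_lit 2, nat_lit 2, nat_lit 3],
  []]
def spT_0_2 (j : ℕ) : ℕ := bif Nat.blt j 1 then nat_lit 0x60000001e0000003a0000001400000006000000000000000000000008000000220000402e000060380000001200002022000000180000201a000040300000002c00006039000060380000e0390000602e000000140000001400000002000000020000403000012039000020100000201200000006000000060000402e0000002e0000402c0000002a0000000c0000000c0000003800002020000000320000e0380000001e0000001e0000002a00000030000000300000c0380000201c00002004000060300000602e0000602c00002030000000240000001a000000120000202e0000002200000018000000100000202c00000020000000160000000e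 else nat_lit 0x36000020280000002a0000003a0000000200000000000000000000000c0000002a0000000200000032000000000000002a0000001e00000032
def spT (j : ℕ) : ℕ := (spT_0_2 j)
def sp (j : ℕ) : ℕ := Nat.land (Nat.shiftRight (spT (Nat.shiftRight j 6)) (Nat.mul (Nat.land j 63) 32)) 4294967295
theorem Eo_lt (r : ℕ) : Eo r < 18014398509481984 := land54_lt _
def cT (j : ℕ) : ℕ := nat_lit 0x0
noncomputable def cChunk (h : ℕ) : ℕ := Nat.rec (motive := fun _ => ℕ) (cT 0) (fun n _ => cT (Nat.succ n)) h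
noncomputable def cF (i : ℕ) : ℕ := Nat.land (Nat.shiftRight (cChunk (Nat.shiftRight i 7)) (Nat.mul (Nat.land i 127) 24)) 16777215
theorem cF_lt (i : ℕ) : cF i < 16777216 := land24_lt _
theorem cF_zero : cF 0 = 0 := by decide +kernel
def nDef : ℕ := 143
def nEv : ℕ := 476
def nW : ℕ := 79
def N : ℕ := 1
def ys : List ℕ := [nat_lit 0, nat_lit 1, nat_lit 2, nat_lit 3, nat_lit 4, nat_lit 5, nat_lit 6, nat_lit 7]
def xw : List ℕ := [nat_lit 5, nat_lit 5, nat_lit 4, nat_lit 5, nat_lit 6, nat_lit 5, nat_lit 2, nat_lit 7, nat_lit 5, nat_lit 5, nat_lit 2, nat_lit 2, nat_lit 3]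
end Cfsg.Agent.Lib.ToddCox.SP44X
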